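import Mathlib.RingTheory.Etale.Kaehler
import Mathlib.RingTheory.Etale.Locus
import Mathlib.RingTheory.Kaehler.JacobiZariski
import Mathlib.RingTheory.Smooth.Kaehler
import Mathlib.RingTheory.Ideal.KrullsHeightTheorem
import Mathlib.RingTheory.Flat.FaithfullyFlat.Algebra
import Mathlib.RingTheory.LocalRing.Module
import Mathlib.LinearAlgebra.Determinant

/-!
# A morphism of smooth algebras étale in low codimension of the base is étale
-/

set_option autoImplicit false

universe u

open TensorProduct

namespace GrothLib.EtPur13

variable {R B S : Type u} [CommRing R] [CommRing B] [CommRing S] [Algebra R B] [Algebra R S] [Algebra B S]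
  [IsScalarTower R B S]

/-- A formally smooth algebra is formally étale over a formally smooth one as soon as the differentials agree. -/
theorem formallyEtale_of_bijective [Algebra.FormallySmooth R S]
    (h : Function.Bijective (KaehlerDifferential.mapBaseChange R B S)) : Algebra.FormallyEtale B S := by
  have h1 : Subsingleton Ω[S⁄B] := by
    refine ⟨fun x y => ?_⟩
    obtain ⟨x, rfl⟩ := KaehlerDifferential.map_surjective R B S x
    obtain ⟨y, rfl⟩ := KaehlerDifferential.map_surjective R B S y
    have e : ∀ z, KaehlerDifferential.map R B S S z = 0 := fun z =>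
      (KaehlerDifferential.exact_mapBaseChange_map R B S z).mpr (h.2 z)
    rw [e, e]
  have h2 : Subsingleton (Algebra.H1Cotangent B S) := by
    refine ⟨fun x y => ?_⟩
    have e : ∀ z, z = (0 : Algebra.H1Cotangent B S) := fun z => by
      have hz : Algebra.H1Cotangent.δ R B S z = 0 :=
        h.1 (((Algebra.H1Cotangent.exact_δ_mapBaseChange R B S).apply_apply_eq_zero z).trans (map_zero _).symm)
      obtain ⟨w, rfl⟩ := (Algebra.H1Cotangent.exact_map_δ R B S z).mp hz
      rw [Subsingleton.elim w 0, map_zero]
    rw [e x, e y]
  exact ⟨h1, h2⟩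

theorem bijective_of_formallyEtale [Algebra.FormallyEtale B S] :
    Function.Bijective (KaehlerDifferential.mapBaseChange R B S) := by
  convert! (KaehlerDifferential.tensorKaehlerEquivOfFormallyEtale R B S).bijective using 1
/-- Étale at the primes over codimension one of the base implies étale. -/
theorem formallyEtale_of_codim [IsNoetherianRing R] [IsLocalRing S] [Module.Flat R S]
    [Algebra.FormallySmooth R B] [Algebra.EssFiniteType R B]
    [Algebra.FormallySmooth R S] [Algebra.EssFiniteType R S]
    (h : ∀ (P : Ideal S) [P.IsPrime], (P.under R).height ≤ 1 → Algebra.FormallyEtale B (Localization.AtPrime P)) :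
    Algebra.FormallyEtale B S := by
  haveI : IsNoetherianRing S := Algebra.EssFiniteType.isNoetherianRing R S
  haveI : Algebra.HasGoingDown R S := inferInstance
  let M := S ⊗[B] Ω[B⁄R]
  let N := Ω[S⁄R]
  haveI : Module.Free S M := Module.free_of_flat_of_isLocalRing
  haveI : Module.Free S N := Module.free_of_flat_of_isLocalRing
  let ψ : M →ₗ[S] N := KaehlerDifferential.mapBaseChange R B S
  have hunder : ∀ (P : Ideal S) [P.IsPrime], P.height ≤ 1 → (P.under R).height ≤ 1 := by
    intro P _ hP
    haveI : P.LiesOver (P.under R) := ⟨rfl⟩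
    rw [Ideal.height_eq_height_add_of_liesOver_of_hasGoingDown (P.under R) P] at hP
    exact le_self_add.trans hP
  -- at the primes over codimension one the localised map is bijective
  have key : ∀ (P : Ideal S) [P.IsPrime], P.height ≤ 1 →
      Module.finrank S M = Module.finrank S N ∧ ∃ t ∉ P, ∀ y : N, t • y ∈ LinearMap.range ψ := by
    intro P _ hP
    let SP := Localization.AtPrime P
    haveI := h P (hunder P hP)
    have hb := bijective_of_formallyEtale (R := R) (B := B) (S := SP)
    let g₁ : N →ₗ[S] Ω[SP⁄R] := KaehlerDifferential.map R R S SP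
    haveI hloc : IsLocalizedModule P.primeCompl g₁ := inferInstanceAs (IsLocalizedModule P.primeCompl (KaehlerDifferential.map R R S SP))
    have hbc : IsBaseChange SP g₁ := IsLocalizedModule.isBaseChange P.primeCompl SP g₁
    refine ⟨?_, ?_⟩
    · have c1 := (TensorProduct.AlgebraTensorModule.cancelBaseChange B S SP SP Ω[B⁄R]).finrank_eq
      have c2 : Module.finrank SP (SP ⊗[S] M) = Module.finrank S M := Module.finrank_baseChange
      have c3 : Module.finrank SP (SP ⊗[S] N) = Module.finrank S N := Module.finrank_baseChange
      have c4 := hbc.equiv.finrank_eq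
      have c5 := (LinearEquiv.ofBijective _ hb).finrank_eq
      exact (c2.symm.trans c1).trans (c5.trans (c4.symm.trans c3))
    · haveI : Module.Finite S N := inferInstance
      obtain ⟨s, hs⟩ := Module.Finite.fg_top (R := S) (M := N)
      have hone : ∀ y : N, ∃ t ∉ P, t • y ∈ LinearMap.range ψ := by
        intro y
        obtain ⟨z, hz⟩ := hb.2 (g₁ y)
        have hf : ∀ z : SP ⊗[B] Ω[B⁄R], ∃ (x : M) (c : S), c ∉ P ∧
            c • KaehlerDifferential.mapBaseChange R B SP z = g₁ (ψ x) := by
          intro z
          induction z using TensorProduct.induction_on with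
          | zero => exact ⟨0, 1, P.primeCompl.one_mem, by simp⟩
          | add a b ha hb =>
            obtain ⟨x, c, hc, ex⟩ := ha
            obtain ⟨x', c', hc', ex'⟩ := hb
            refine ⟨c' • x + c • x', c * c', P.primeCompl.mul_mem hc hc', ?_⟩
            rw [map_add, map_add, map_add, map_smul, map_smul, map_smul, map_smul, ← ex, ← ex', smul_add, smul_smul,
              smul_smul, mul_comm c' c]
          | tmul a b =>
            obtain ⟨⟨a₀, c⟩, hac⟩ := IsLocalization.surj P.primeCompl a
            refine ⟨a₀ ⊗ₜ b, c, c.2, ?_⟩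
            show (c : S) • KaehlerDifferential.mapBaseChange R B SP (a ⊗ₜ b) =
              g₁ (KaehlerDifferential.mapBaseChange R B S (a₀ ⊗ₜ b))
            rw [KaehlerDifferential.mapBaseChange_tmul, KaehlerDifferential.mapBaseChange_tmul, map_smul,
              ← IsScalarTower.algebraMap_smul SP (c : S), smul_smul, mul_comm, hac, IsScalarTower.algebraMap_smul]
            congr 1
            have e : (KaehlerDifferential.map R R B SP : Ω[B⁄R] →ₗ[B] Ω[SP⁄R]) =
                ((KaehlerDifferential.map R R S SP).restrictScalars B).comp (KaehlerDifferential.map R R B S) :=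
              LinearMap.ext_on_range (KaehlerDifferential.span_range_derivation R B) fun x => by
                simp [← IsScalarTower.algebraMap_apply B S SP]
            exact DFunLike.congr_fun e b
        obtain ⟨x, c, hc, ex⟩ := hf z
        rw [hz, ← map_smul] at ex
        obtain ⟨⟨t, ht⟩, et⟩ := (IsLocalizedModule.eq_iff_exists P.primeCompl g₁).mp ex
        exact ⟨t * c, P.primeCompl.mul_mem ht hc, ⟨t • x, by rw [map_smul, mul_smul]; exact et.symm⟩⟩
      choose t ht hrange using hone
      refine ⟨∏ y ∈ s, t y, P.primeCompl.prod_mem fun y _ => ht y, fun y => ?_⟩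
      have : (⊤ : Submodule S N) ≤ (LinearMap.range ψ).comap ((∏ y ∈ s, t y) • LinearMap.id) := by
        rw [← hs, Submodule.span_le]
        intro y hy
        classical
        show (∏ y ∈ s, t y) • y ∈ LinearMap.range ψ
        rw [← Finset.prod_erase_mul s t hy, mul_smul]
        exact Submodule.smul_mem _ _ (hrange y)
      exact this (trivial : y ∈ (⊤ : Submodule S N))
  obtain ⟨P₀, hP₀⟩ := (⊥ : Ideal S).nonempty_minimalPrimes bot_ne_top
  haveI := hP₀.1.1
  have hP₀h : P₀.height ≤ 1 := by
    rw [Ideal.height_eq_zero_iff.mpr hP₀]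
    exact zero_le_one
  obtain ⟨hrk, -⟩ := key P₀ hP₀h
  let e : N ≃ₗ[S] M := LinearEquiv.ofFinrankEq N M hrk.symm
  let g : M →ₗ[S] M := e.toLinearMap.comp ψ
  have hd : IsUnit (LinearMap.det g) := by
    by_contra hd
    obtain ⟨P, hP⟩ := (Ideal.span {LinearMap.det g}).nonempty_minimalPrimes
      (by rw [ne_eq, Ideal.span_singleton_eq_top]; exact hd)
    haveI := hP.1.1
    have hPh : P.height ≤ 1 := Ideal.height_le_one_of_isPrincipal_of_mem_minimalPrimes _ P hP
    obtain ⟨-, t, ht, hr⟩ := key P hPh
    let b := Module.Free.chooseBasis S M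
    choose n hn using fun i => hr (e.symm (b i))
    let nn : M →ₗ[S] M := b.constr S n
    have hgn : g.comp nn = t • LinearMap.id := b.ext fun i => by
      show e (ψ (b.constr S n (b i))) = t • b i
      rw [b.constr_basis, hn, map_smul, e.apply_symm_apply]
    have hdet : LinearMap.det g * LinearMap.det nn = t ^ Module.finrank S M := by
      rw [← map_mul, Module.End.mul_eq_comp, hgn, LinearMap.det_smul, LinearMap.det_id, mul_one]
    have : t ^ Module.finrank S M ∈ P := by
      rw [← hdet]; exact P.mul_mem_right _ (hP.1.2 (Ideal.mem_span_singleton_self _))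
    exact ht (‹P.IsPrime›.mem_of_pow_mem _ this)
  have hg : Function.Bijective g :=
    (Module.End.isUnit_iff g).1 ((LinearMap.isUnit_iff_isUnit_det g).2 hd)
  exact formallyEtale_of_bijective ((e.bijective.of_comp_iff' ψ).1 hg)

end GrothLib.EtPur13
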