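import Groth.Agent.Lib.EtPur13.Ring
import Mathlib.AlgebraicGeometry.Morphisms.Etale
import Mathlib.AlgebraicGeometry.Morphisms.Smooth
import Mathlib.AlgebraicGeometry.Noetherian
import Mathlib.RingTheory.Smooth.Flat

/-!
# A morphism of smooth schemes étale over an open with small complement is étale
-/

set_option autoImplicit false
set_option backward.isDefEq.respectTransparency false
set_option backward.isDefEq.respectTransparency.types false

universe u

open CategoryTheory CategoryTheory.Limits AlgebraicGeometry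

namespace GrothLib.EtPur13

theorem etale_of_codim {S : Scheme.{u}} [IsLocallyNoetherian S] {G H : Over S} [Smooth G.hom] [Smooth H.hom]
    (S₁ : S.Opens) (hcodim : ∀ x : S, x ∉ S₁ → (2 : WithBot ℕ∞) ≤ ringKrullDim (S.presheaf.stalk x))
    (f : G ⟶ H) [Etale ((Over.pullback S₁.ι).map f).left] : Etale f.left := by
  haveI h₁ : Etale (pullback.fst G.hom S₁.ι ≫ f.left) := by
    have e : ((Over.pullback S₁.ι).map f).left ≫ pullback.fst H.hom S₁.ι = pullback.fst G.hom S₁.ι ≫ f.left :=
      pullback.lift_fst _ _ _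
    rw [← e]; infer_instance
  rw [HasRingHomProperty.iff_exists_appLE (P := @Etale) (fun A B T _ _ _ _ r _ φ hφ => RingHom.Etale.stableUnderComposition (algebraMap A B) φ
    (RingHom.etale_algebraMap.mpr (Algebra.Etale.of_isLocalizationAway r)) hφ)]
  intro x
  obtain ⟨U, hU, hxU, -⟩ := exists_isAffineOpen_mem_and_subset (x := G.hom x) (U := ⊤) trivial
  obtain ⟨V, hV, hxV, hVU⟩ := exists_isAffineOpen_mem_and_subset (x := f.left x) (U := H.hom ⁻¹ᵁ U)
    (show H.hom (f.left x) ∈ U by rw [← Scheme.Hom.comp_apply, Over.w f]; exact hxU)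
  obtain ⟨W, hW, hxW, hWV⟩ := exists_isAffineOpen_mem_and_subset (x := x) (U := f.left ⁻¹ᵁ V) hxV
  refine ⟨⟨V, hV⟩, ⟨W, hW⟩, hxW, hWV, ?_⟩
  have hWU : W ≤ G.hom ⁻¹ᵁ U := fun y hy => by
    show G.hom y ∈ U
    rw [← Over.w f, Scheme.Hom.comp_apply]
    exact hVU (hWV hy)
  let R := Γ(S, U)
  let B := Γ(H.left, V)
  let C := Γ(G.left, W)
  let iB := H.hom.appLE U V hVU
  let iC := f.left.appLE V W hWV
  let iR := G.hom.appLE U W hWU
  have hcomp : iB ≫ iC = iR := by
    simp only [iB, iC, iR, Scheme.Hom.appLE_comp_appLE, Over.w]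
  haveI : IsNoetherianRing R := IsLocallyNoetherian.component_noetherian ⟨U, hU⟩
  letI : Algebra R B := iB.hom.toAlgebra
  letI : Algebra R C := iR.hom.toAlgebra
  letI : Algebra B C := iC.hom.toAlgebra
  haveI : IsScalarTower R B C := IsScalarTower.of_algebraMap_eq fun r =>
    (DFunLike.congr_fun (congrArg CommRingCat.Hom.hom hcomp) r).symm
  haveI : Algebra.Smooth R B := HasRingHomProperty.appLE @Smooth H.hom inferInstance ⟨U, hU⟩ ⟨V, hV⟩ hVU
  haveI : Algebra.Smooth R C := HasRingHomProperty.appLE @Smooth G.hom inferInstance ⟨U, hU⟩ ⟨W, hW⟩ hWU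
  haveI : Algebra.FinitePresentation B C := Algebra.FinitePresentation.of_restrict_scalars_finitePresentation R B C
  show RingHom.Etale iC.hom
  suffices Algebra.FormallyEtale B C by
    exact (⟨this, inferInstance⟩ : Algebra.Etale B C)
  -- over the open everything is étale
  have hopen : ∀ (q : Ideal C) [q.IsPrime], (q.under R).height ≤ 1 → Algebra.IsEtaleAt B q := by
    intro q _ hq
    let g : G.left := hW.fromSpec ⟨q, inferInstance⟩
    have hgW : g ∈ W := by
      rw [← SetLike.mem_coe, ← hW.range_fromSpec]; exact ⟨_, rfl⟩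
    let p : PrimeSpectrum R := ⟨q.under R, inferInstance⟩
    have hs : G.hom g = hU.fromSpec p := by
      rw [← Scheme.Hom.comp_apply, ← IsAffineOpen.SpecMap_appLE_fromSpec G.hom hU hW hWU]
      rfl
    have hg₁ : g ∈ G.hom ⁻¹ᵁ S₁ := by
      show G.hom g ∈ S₁
      by_contra hn
      have h2 := hcodim _ hn
      rw [hs] at h2 hn
      have hpU : hU.fromSpec p ∈ U := by rw [← SetLike.mem_coe, ← hU.range_fromSpec]; exact ⟨_, rfl⟩
      letI : Algebra R (S.presheaf.stalk (hU.fromSpec p)) := TopCat.Presheaf.algebra_section_stalk S.presheaf ⟨_, hpU⟩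
      haveI : IsLocalization.AtPrime (S.presheaf.stalk (hU.fromSpec p)) p.asIdeal := hU.isLocalization_stalk' p hpU
      rw [IsLocalization.AtPrime.ringKrullDim_eq_height p.asIdeal] at h2
      have h3 : ((2 : ℕ∞) : WithBot ℕ∞) ≤ ((1 : ℕ∞) : WithBot ℕ∞) := h2.trans (WithBot.coe_le_coe.2 hq)
      exact absurd (WithBot.coe_le_coe.1 h3) (by decide)
    obtain ⟨c, hcle, hgc⟩ := hW.exists_basicOpen_le (V := G.hom ⁻¹ᵁ S₁) ⟨g, hg₁⟩ hgW
    let D := G.left.basicOpen c
    have hDW : D ≤ W := G.left.basicOpen_le c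
    have hD : IsAffineOpen D := hW.basicOpen c
    have hDr : Set.range (D.ι ≫ G.hom) ⊆ Set.range S₁.ι := by
      rintro _ ⟨y, rfl⟩
      rw [Scheme.Opens.range_ι, Scheme.Hom.comp_apply]
      exact hcle y.2
    let d₁ : (D : Scheme.{u}) ⟶ pullback G.hom S₁.ι :=
      pullback.lift D.ι (IsOpenImmersion.lift S₁.ι (D.ι ≫ G.hom) hDr) (IsOpenImmersion.lift_fac _ _ _).symm
    haveI : IsOpenImmersion d₁ := by
      haveI : IsOpenImmersion (d₁ ≫ pullback.fst G.hom S₁.ι) := by rw [pullback.lift_fst]; infer_instance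
      exact IsOpenImmersion.of_comp d₁ (pullback.fst G.hom S₁.ι)
    haveI : Etale (D.ι ≫ f.left) := by
      rw [← pullback.lift_fst D.ι (IsOpenImmersion.lift S₁.ι (D.ι ≫ G.hom) hDr)
        (IsOpenImmersion.lift_fac _ _ _).symm, Category.assoc]
      infer_instance
    haveI : Etale (hD.fromSpec ≫ f.left) := by
      rw [IsAffineOpen.fromSpec, Category.assoc]
      infer_instance
    haveI : Etale (Spec.map (f.left.appLE V D (hDW.trans hWV)) ≫ hV.fromSpec) := by
      rw [IsAffineOpen.SpecMap_appLE_fromSpec]; infer_instance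
    have het : Etale (Spec.map (f.left.appLE V D (hDW.trans hWV))) :=
      MorphismProperty.of_postcomp (W := @Etale) (W' := @Etale) _ hV.fromSpec inferInstance ‹_›
    rw [HasRingHomProperty.Spec_iff (P := @Etale)] at het
    letI : Algebra B Γ(G.left, D) := (f.left.appLE V D (hDW.trans hWV)).hom.toAlgebra
    letI : Algebra C Γ(G.left, D) := (G.left.presheaf.map (homOfLE hDW).op).hom.toAlgebra
    haveI : IsScalarTower B C Γ(G.left, D) := IsScalarTower.of_algebraMap_eq fun r => by
      show (f.left.appLE V D (hDW.trans hWV)).hom r = (iC ≫ G.left.presheaf.map (homOfLE hDW).op).hom r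
      simp only [iC, Scheme.Hom.appLE_map]
    haveI : IsLocalization.Away c Γ(G.left, D) := hW.isLocalization_basicOpen c
    haveI : Algebra.Etale B Γ(G.left, D) := het
    haveI : Algebra.FormallyEtale B (Localization.Away c) := Algebra.FormallyEtale.of_equiv
      ((IsLocalization.algEquiv (Submonoid.powers c) Γ(G.left, D) (Localization.Away c)).restrictScalars B)
    have hsub := Algebra.basicOpen_subset_etaleLocus_iff.2 ‹Algebra.FormallyEtale B (Localization.Away c)›
    refine hsub (show (⟨q, inferInstance⟩ : PrimeSpectrum C) ∈ PrimeSpectrum.basicOpen c from ?_)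
    rw [← hW.fromSpec_preimage_basicOpen c]
    exact hgc
  rw [← Algebra.etaleLocus_eq_univ_iff, Set.eq_univ_iff_forall]
  intro q
  show Algebra.FormallyEtale B (Localization.AtPrime q.asIdeal)
  let Cq := Localization.AtPrime q.asIdeal
  haveI : Algebra.FormallySmooth R Cq := Algebra.FormallySmooth.comp R C Cq
  haveI : Algebra.EssFiniteType R Cq := Algebra.EssFiniteType.comp R C Cq
  haveI : Module.Flat R Cq := Module.Flat.trans R C Cq
  refine formallyEtale_of_codim (R := R) (B := B) (S := Cq) fun P _ hP => ?_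
  let q' := P.under C
  have hq' : (q'.under R).height ≤ 1 := by rwa [Ideal.under_under]
  haveI := hopen q' hq'
  haveI : IsLocalization.AtPrime (Localization.AtPrime P) q' :=
    IsLocalization.isLocalization_isLocalization_atPrime_isLocalization q.asIdeal.primeCompl (Localization.AtPrime P) P
  exact Algebra.FormallyEtale.of_equiv
    ((IsLocalization.algEquiv q'.primeCompl (Localization.AtPrime q') (Localization.AtPrime P)).restrictScalars B)

end GrothLib.EtPur13
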